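import Mathlib
import Cfsg.Agent.Lib.Semi.Spec

/-!
# Semisimple parts of elements of `F₄(q)`
-/

set_option autoImplicit false

namespace CfsgLib.Semi

open CfsgLib.RGD CfsgLib.Lang CfsgLib.Chev CfsgLib.Weyl CfsgLib.St CfsgLib.ChevAut Cfsg.Lie Cfsg Matrix

/-- the root system of type `F₄` -/
abbrev ΦF4 : RootSys (Fin 48) (Fin 4) := rootSys rtOKF4

/-- packed inner products -/
def tGF4 : ℕ := 0x866666466646444664644646242442422444242224222220686664666464644646464462624424242442424222422202668646664664464466446224466244224424422422242022666666655555555444444444444444444333333332222222664686646446646422442664422644664242244242202422646668644646466242424426264464646224242442022242466666844464666224244242646446466222424440222224666544465554443666555444444333222544433324443222664564456445534644553664422533442453344234423422646546454645354464535426264353424435342434243242466544654463554446355242646335244433524432443224644566445536445442533646242553644344253344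22344246456464535464542435346262453546434243534242342444654664355446524433522446635544632443354224324444456663444555622233344444455566623334445222344466444226644442286666466442242222066444422664442264642426464424268664642626424220264644242646424246642246446244266846624264622402264462442466422464444425553533366464464624244242255535333644444246444245535353364646446262442424255353533464442444642445355335346644622446624422453553353446424464246424642642464264286622064264246426424642464246246244624462462446268260262446246244624462462462444624462624446262462806246262444626244624446226444264426264442626426082642626444262644264442642642644264426426442620628626442642644264426426424642464246246424624602266824624642462464246424644246443533553542244266442264466435335535442464442444643353535524242442626446464633535355424446424444463335355522424424264644646633353555244444642246642442644622042264624266486624426446422466424246462424464620224246262464668624244646242464622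4446622444466022224224466466668224444662244466444322254443332666555444444333222655544436665444442342245334423644553664422533442564455346645644424324243534243464535426264353424546453546465464244322443352443446355242646335244544635544665446422344234425334442533646242553644455364456445664242342434243534424353462624535464453546454645646224324432443354244335224466355446435544654465466222344423334445222333444444555666344455564445666422222044424222664644646242442422666464448666664242220244242422646464462624424242664646446866646224202242442242466446224466244224646644646686466222222233333333444444444444444444555555556666666220242224224424422442664422644664464466466646866202224222424244242424426264464646446464666466686022222422242444224244242646446466444646664666668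

/-- the inner product of two roots plus four -/
def grF4 (r s : Fin 48) : ℕ := Nat.land (Nat.shiftRight tGF4 (Nat.mul 4 (Nat.add (Nat.mul 48 r) s))) 15

theorem grF4_eq : ∀ r s, (grF4 r s : ℤ) = ΦF4.form (ΦF4.rt r) (ΦF4.rt s) + 4 := by decide +kernel

/-- evaluate an integer first -/
noncomputable def fz {α : Type} (z : ℤ) (f : ℤ → α) : α :=
  Int.rec (fun n => Chev.force n fun n => f (.ofNat n)) (fun n => Chev.force n fun n => f (.negSucc n)) z

theorem fz_eq {α : Type} (z : ℤ) (f : ℤ → α) : fz z f = f z := by cases z <;> exact Chev.force_eq _ fun _ => f _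

/-- evaluate a vector first -/
noncomputable def fv {α : Type} (v : Fin 4 → ℤ) (f : ℤ × ℤ × ℤ × ℤ → α) : α :=
  fz (v 0) fun x => fz (v 1) fun y => fz (v 2) fun z => fz (v 3) fun t => f (x, y, z, t)

/-- Horner evaluation -/
noncomputable def hor (a b c d e : ℤ × ℤ × ℤ × ℤ) (P : List ℤ) : (ℤ × ℤ × ℤ × ℤ → Bool) → Bool :=
  P.rec (fun f => f (0, 0, 0, 0)) fun p _ ih f => ih fun v =>
    let g := fun a b c d e : ℤ => (p.mul e).add ((v.1.mul a).add ((v.2.1.mul b).add ((v.2.2.1.mul c).add (v.2.2.2.mul d))))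
    fz (g a.1 b.1 c.1 d.1 e.1) fun x => fz (g a.2.1 b.2.1 c.2.1 d.2.1 e.2.1) fun y =>
      fz (g a.2.2.1 b.2.2.1 c.2.2.1 d.2.2.1 e.2.2.1) fun z => fz (g a.2.2.2 b.2.2.2 c.2.2.2 d.2.2.2 e.2.2.2) fun t =>
        f (x, y, z, t)

/-- the annihilating polynomials -/
def polF4 : List (List ℤ) := [[-1, -1, 0, 1, 1], [-1, 0, 0, 0, 1], [-1, 1, 0, -1, 1], [1, 0, 0, 0, 1], [1, 0, -1, 0, 1]]

theorem F4_chk : ∀ a, grF4 a a = 6 → ∀ b, grF4 a b = 3 → grF4 b b = 6 → ∀ c, grF4 b c = 2 → grF4 a c = 4 →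
    grF4 c c = 8 → ∀ d, grF4 c d = 2 → grF4 a d = 4 → grF4 b d = 4 → grF4 d d = 8 →
    (fv (ΦF4.rt a) fun a => fv (ΦF4.rt b) fun b => fv (ΦF4.rt c) fun c => fv (ΦF4.rt d) fun d =>
      polF4.any fun P => [(1, 0, 0, 0), (0, 1, 0, 0), (0, 0, 1, 0), (0, 0, 0, 1)].all fun e =>
        hor a b c d e P (· == (0, 0, 0, 0))) = true := by
  decide +kernel

theorem hor_eq {w : Equiv.Perm (Fin 48)} (hw : w ∈ ΦF4.W) (r : Fin 48) (P : List ℤ) (f : ℤ × ℤ × ℤ × ℤ → Bool) :
    let v := fun x : Fin 4 → ℤ => (x 0, x 1, x 2, x 3)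
    hor (v (ΦF4.rt (w (ΦF4.simple 0)))) (v (ΦF4.rt (w (ΦF4.simple 1)))) (v (ΦF4.rt (w (ΦF4.simple 2))))
      (v (ΦF4.rt (w (ΦF4.simple 3)))) (v (ΦF4.rt r)) P f =
      f (v fun i => ∑ k ∈ Finset.range P.length, P.getD k 0 * ΦF4.rt ((w ^ k) r) i) := by
  induction P generalizing f with
  | nil => rfl
  | cons p P ih =>
    refine (ih _).trans ?_
    simp only [fz_eq, List.length_cons, Finset.sum_range_succ', List.getD_cons_succ, List.getD_cons_zero, pow_zero,
      Equiv.Perm.one_apply, pow_succ' w, Equiv.Perm.mul_apply, ΦF4.rt_apply_eq_sum hw ((w ^ _) r), Fin.sum_univ_four,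
      Int.add_def, Int.mul_def, mul_add, Finset.sum_add_distrib, Finset.sum_mul, mul_assoc, add_comm (p * _), add_assoc]

theorem F4_ann {w : Equiv.Perm (Fin 48)} (hw : w ∈ ΦF4.W) : ∃ P ∈ polF4, Ann ΦF4 w P := by
  have h : ∀ i j, grF4 (w (ΦF4.simple i)) (w (ΦF4.simple j)) = grF4 (ΦF4.simple i) (ΦF4.simple j) := fun i j => by
    exact_mod_cast (grF4_eq _ _).trans ((ΦF4.form_apply hw _ _).symm ▸ (grF4_eq _ _).symm)
  have := F4_chk _ ((h 0 0).trans (by decide +kernel)) _ ((h 0 1).trans (by decide +kernel))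
    ((h 1 1).trans (by decide +kernel)) _ ((h 1 2).trans (by decide +kernel)) ((h 0 2).trans (by decide +kernel))
    ((h 2 2).trans (by decide +kernel)) _ ((h 2 3).trans (by decide +kernel)) ((h 0 3).trans (by decide +kernel))
    ((h 1 3).trans (by decide +kernel)) ((h 3 3).trans (by decide +kernel))
  simp only [fv, fz_eq, List.any_eq_true, List.all_eq_true] at this
  refine this.imp fun P hP => ⟨hP.1, fun j i => ?_⟩
  have h1 := hor_eq hw (ΦF4.simple j) P (· == (0, 0, 0, 0))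
  dsimp only at h1
  rw [hP.2 _ (by fin_cases j <;> simp [ΦF4.rt_simple]), eq_comm, beq_iff_eq] at h1
  simp only [Prod.mk.injEq] at h1
  fin_cases i
  exacts [h1.1, h1.2.1, h1.2.2.1, h1.2.2.2]

theorem Ann.orderOf_dvd {ι κ : Type} [Fintype κ] [DecidableEq κ] {Φ : RootSys ι κ} {w : Equiv.Perm ι} (hw : w ∈ Φ.W)
    {a : List ℤ} (h : Ann Φ w a) {M : Type*} [CommGroup M] {c : κ → M} {q : ℕ}
    (hc : ∀ r, Φ.chr c (w r) = Φ.chr c r ^ q) : (orderOf c : ℤ) ∣ pv (a.getD · 0) a.length q :=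
  orderOf_dvd_iff_zpow_eq_one.2 <| funext fun j => by
    have := Φ.eq_zpow_of_cyclic hw (c := c) (q := q) (fun j => by rw [hc, Φ.chr_simple]) (Φ.simple j) (a.getD · 0)
      a.length
    simp only [h j, zpow_zero, Finset.prod_const_one, Φ.chr_simple] at this
    rw [Pi.pow_apply, pv, ← this, Pi.one_apply]

theorem hmF4 : chevF4 ∈ [chevG2, chevB2, chevD4, chevF4, chevE6, chevE7, chevE8] := by simp

variable {F : Type*} [Field F] [Fintype F] (p : ℕ) [hp : Fact p.Prime] [CharP F p] {q : ℤ} (hq : Fintype.card F = q)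

theorem tau_mem_F4 [Good chevF4] (c : Fin chevF4.rank → Fˣ) : tau chevF4 F c ∈ chevF4.diagonalSubgroup F := by
  simpa using tau_pow_mem rtOKF4 smithF4 (e := 1)
    (fun i hi x => ⟨x, by rw [(by decide : ∀ i < 4, [1, 1, 1, 1].getD i 0 = 1) i hi]⟩) c

include hq

theorem F4_order (g : chevF4.group F) : ∃ k m : ℕ, orderOf g = p ^ k * m ∧ ¬ p ∣ m ∧
    ((m : ℤ) ∣ (q + 1) * (q ^ 3 - 1) ∨ (m : ℤ) ∣ q ^ 4 - 1 ∨ (m : ℤ) ∣ (q - 1) * (q ^ 3 + 1) ∨
      k = 0 ∧ ((m : ℤ) ∣ q ^ 4 + 1 ∨ (m : ℤ) ∣ q ^ 4 - q ^ 2 + 1)) := by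
  have := good_of_mem hmF4
  let S : StSys ΦF4 (AlgebraicClosure F) (GL chevF4.Idx (AlgebraicClosure F)) := stSys rtOKF4 _
  obtain ⟨c, w, hw, h1, h2, h3, u, hu, k, h4, h5⟩ : ∃ c : Fin 4 → (AlgebraicClosure F)ˣ, ∃ w ∈ ΦF4.W,
      (∀ r, ΦF4.chr c (w r) = ΦF4.chr c r ^ Fintype.card F) ∧ (∀ r ∈ ΦF4.Ker c, w r ∈ ΦF4.Ker c) ∧ ¬ p ∣ orderOf c ∧
      ∃ u ∈ S.UU (ΦF4.Ker c), ∃ k, orderOf u = p ^ k ∧ orderOf g = p ^ k * orderOf c :=
    exists_order_data rtOKF4 hmF4 p g
  obtain ⟨P, hP, hA⟩ := F4_ann hw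
  have h6 := hA.orderOf_dvd hw h1
  have h7 : ∑ k ∈ Finset.range P.length, P.getD k 0 ≠ 0 → k = 0 := fun h => by
    rw [Set.not_nonempty_iff_eq_empty.1 fun h' => h (hA.sum_eq_zero hw h' (fun _ h => h.1) h2), S.UU_empty,
      Subgroup.mem_bot] at hu
    rw [hu, orderOf_one] at h4
    exact (Nat.pow_eq_one.1 h4.symm).resolve_left hp.out.ne_one
  refine ⟨k, _, h5, h3, ?_⟩
  rw [hq] at h6
  simp only [polF4, List.mem_cons, List.not_mem_nil, or_false] at hP
  rcases hP with rfl | rfl | rfl | rfl | rfl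
  on_goal 1 => left
  on_goal 2 => right; left
  on_goal 3 => right; right; left
  on_goal 4 => refine .inr (.inr (.inr ⟨h7 (by decide), .inl ?_⟩))
  on_goal 5 => refine .inr (.inr (.inr ⟨h7 (by decide), .inr ?_⟩))
  all_goals exact h6.trans (dvd_of_eq (by simp [pv, Finset.sum_range_succ]; ring))

theorem F4_exists {N : ℕ} (hN : N.Coprime (Fintype.card F)) :
    ((N : ℤ) ∣ (q - 1) * (q ^ 3 + 1) ∨ (N : ℤ) ∣ (q + 1) * (q ^ 3 - 1) ∨ (N : ℤ) ∣ q ^ 4 + 1 ∨
      (N : ℤ) ∣ q ^ 4 - q ^ 2 + 1 → ∃ g : chevF4.group F, orderOf g = N) ∧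
    ((N : ℤ) ∣ q ^ 3 - 1 ∨ (N : ℤ) ∣ q ^ 3 + 1 ∨ (N : ℤ) ∣ (q - 1) * (q ^ 2 + 1) ∨ (N : ℤ) ∣ (q + 1) * (q ^ 2 + 1) →
      ∃ g : chevF4.group F, orderOf g = p * N) := by
  have := good_of_mem hmF4
  subst hq
  refine ⟨?_, ?_⟩ <;> rintro (h | h | h | h)
  · exact Eig.exists_orderOf rtOKF4 hmF4 tau_mem_F4 (ΦF4.wprod_mem_W [2, 1, 0]) (n := 3) (P := [[0, 0, -1, 1], [0, -1, 1, 0], [-1, 2, 0, -1], [1, -1, -1, 0]])
      (c := [-1, 1, 0, -1, 1]) (γ := (3 : Fin 48)) (show Eig ΦF4 _ _ _ (Fin.val : Fin 4 → ℕ) _ _ by decide +kernel)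
      (h.trans (dvd_of_eq (by simp [pv, Finset.sum_range_succ]; ring))) hN
  · exact Eig.exists_orderOf rtOKF4 hmF4 tau_mem_F4 (ΦF4.wprod_mem_W [3, 1, 0]) (n := 3) (P := [[-1, -1, 1, 1], [0, 1, 0, -1], [1, -1, -1, 0], [-1, 0, 0, 1]])
      (c := [-1, -1, 0, 1, 1]) (γ := (9 : Fin 48)) (show Eig ΦF4 _ _ _ (Fin.val : Fin 4 → ℕ) _ _ by decide +kernel)
      (h.trans (dvd_of_eq (by simp [pv, Finset.sum_range_succ]; ring))) hN
  · exact Eig.exists_orderOf rtOKF4 hmF4 tau_mem_F4 (ΦF4.wprod_mem_W [3, 2, 1, 2, 1, 0]) (n := 3) (P := [[-1, 0, 0, -1], [0, 1, -1, 1], [1, -2, 1, 0], [-1, 1, 1, -1]])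
      (c := [1, 0, 0, 0, 1]) (γ := (3 : Fin 48)) (show Eig ΦF4 _ _ _ (Fin.val : Fin 4 → ℕ) _ _ by decide +kernel)
      (h.trans (dvd_of_eq (by simp [pv, Finset.sum_range_succ]; ring))) hN
  · exact Eig.exists_orderOf rtOKF4 hmF4 tau_mem_F4 (ΦF4.wprod_mem_W [3, 2, 1, 0]) (n := 3) (P := [[-1, 1, 0, -1], [1, -1, -1, 1], [-1, 0, 2, -1], [0, 1, -1, 1]])
      (c := [1, 0, -1, 0, 1]) (γ := (3 : Fin 48)) (show Eig ΦF4 _ _ _ (Fin.val : Fin 4 → ℕ) _ _ by decide +kernel)
      (h.trans (dvd_of_eq (by simp [pv, Finset.sum_range_succ]; ring))) hN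
  · exact Eig.exists_orderOf_mul rtOKF4 hmF4 p tau_mem_F4 (ΦF4.wprod_mem_W [1, 0]) (n := 2) (P := [[-1, 0, 1], [0, 1, -1], [0, -2, 0], [1, 1, 1]])
      (c := [-1, 0, 0, 1]) (γ := (3 : Fin 48)) (show Eig ΦF4 _ _ _ (Fin.val : Fin 4 → ℕ) _ _ by decide +kernel)
      (h.trans (dvd_of_eq (by simp [pv, Finset.sum_range_succ]; ring))) hN
      (δ := (0 : Fin 48)) (show ΦF4.wprod _ _ = _ by decide +kernel) (by decide +kernel)
  · exact Eig.exists_orderOf_mul rtOKF4 hmF4 p tau_mem_F4 (ΦF4.wprod_mem_W [2, 1, 0]) (n := 2) (P := [[-1, 0, -1], [0, -1, 1], [0, 2, 0], [1, -1, -1]])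
      (c := [1, 0, 0, 1]) (γ := (3 : Fin 48)) (show Eig ΦF4 _ _ _ (Fin.val : Fin 4 → ℕ) _ _ by decide +kernel)
      (h.trans (dvd_of_eq (by simp [pv, Finset.sum_range_succ]; ring))) hN
      (δ := (0 : Fin 48)) (show ΦF4.wprod _ _ = _ by decide +kernel) (by decide +kernel)
  · exact Eig.exists_orderOf_mul rtOKF4 hmF4 p tau_mem_F4 (ΦF4.wprod_mem_W [2, 1]) (n := 2) (P := [[1, 0, 0], [0, -1, 1], [-1, 2, -1], [0, -1, -1]])
      (c := [-1, 1, -1, 1]) (γ := (7 : Fin 48)) (show Eig ΦF4 _ _ _ (Fin.val : Fin 4 → ℕ) _ _ by decide +kernel)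
      (h.trans (dvd_of_eq (by simp [pv, Finset.sum_range_succ]; ring))) hN
      (δ := (3 : Fin 48)) (show ΦF4.wprod _ _ = _ by decide +kernel) (by decide +kernel)
  · exact Eig.exists_orderOf_mul rtOKF4 hmF4 p tau_mem_F4 (ΦF4.wprod_mem_W [3, 2, 1, 2, 1]) (n := 2) (P := [[1, 0, 0], [-1, 0, -1], [0, -1, 1], [1, 2, 1]])
      (c := [1, 1, 1, 1]) (γ := (7 : Fin 48)) (show Eig ΦF4 _ _ _ (Fin.val : Fin 4 → ℕ) _ _ by decide +kernel)
      (h.trans (dvd_of_eq (by simp [pv, Finset.sum_range_succ]; ring))) hN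
      (δ := (3 : Fin 48)) (show ΦF4.wprod _ _ = _ by decide +kernel) (by decide +kernel)

end CfsgLib.Semi
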