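import Mathlib
import Cfsg.Agent.Lib.Semi.Spec
import Cfsg.Agent.Lib.ChevInv.Calc

/-!
# Element orders in `G₂(q)`
-/

set_option autoImplicit false

namespace CfsgLib.Semi

open CfsgLib.RGD CfsgLib.Lang CfsgLib.Chev CfsgLib.Weyl CfsgLib.St CfsgLib.ChevAut Cfsg.Lie Cfsg Matrix

theorem rt_pow_eq {ι κ : Type} [Fintype κ] [DecidableEq κ] {Φ : RootSys ι κ} {w : Equiv.Perm ι} (hw : w ∈ Φ.W) (k : ℕ)
    (j i : κ) : Φ.rt ((w ^ k) (Φ.simple j)) i = (Matrix.of (fun j i => Φ.rt (w (Φ.simple j)) i) ^ k) j i := by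
  induction k generalizing i with
  | zero => simp [Φ.rt_simple, Matrix.one_apply, eq_comm]
  | succ k ih => simp [pow_succ' w, pow_succ (Matrix.of _), Φ.rt_apply_eq_sum hw ((w ^ k) _), ih, Matrix.mul_apply]

/-- the root system of type `G₂` -/
abbrev ΦG2 : RootSys (Fin 12) (Fin 2) := rootSys rtOKG2

/-- the determinant of two roots -/
def detG2 (r s : Fin 12) : ℕ := (ΦG2.rt r 0 * ΦG2.rt s 1 - ΦG2.rt r 1 * ΦG2.rt s 0).natAbs

theorem G2_chk : ∀ a : Fin 2 → Fin 12, (∀ i j, ΦG2.form (ΦG2.rt (a i)) (ΦG2.rt (a j)) =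
    ΦG2.form (ΦG2.rt (ΦG2.simple i)) (ΦG2.rt (ΦG2.simple j))) →
    (∃ P ∈ [[-1, 0, 1], [1, 1, 1], [1, -1, 1]], ∀ j i, ∑ k ∈ Finset.range P.length,
      P.getD k 0 * (Matrix.of (fun j i => ΦG2.rt (a j) i) ^ k) j i = 0) ∧
    ∀ γ, (∀ i, ΦG2.rt γ i = ∑ j, ΦG2.rt γ j * ΦG2.rt (a j) i) → (∀ j, a j = ΦG2.simple j) ∨
      ∀ j, ∃ m ∈ Finset.Icc (-3 : ℤ) 3, ∀ i, ΦG2.rt (a j) i + ΦG2.rt (ΦG2.simple j) i = m * ΦG2.rt γ i := by
  decide +kernel

theorem G2_chk₂ : ∀ r : Fin 12, (∀ j, 0 ≤ ΦG2.rt r j) → (1 ≤ ΦG2.ip ![1, 1] r ∧ ΦG2.ip ![1, 1] r ≤ 5) ∧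
    (detG2 7 r ≠ 1 → ΦG2.ip ![1, -1] r = 1) ∧ (r ≠ 7 → 1 ≤ ΦG2.ip ![0, 1] r ∧ ΦG2.ip ![0, 1] r ≤ 2) ∧
    ∀ s, (∀ j, 0 ≤ ΦG2.rt s j) → s ≠ r → detG2 r s = 1 ∨ detG2 r s = 2 ∨ detG2 r s = 3 := by decide +kernel

theorem pow_detG2 {M : Type*} [CommGroup M] {c : Fin 2 → M} {r s : Fin 12} (hr : ΦG2.chr c r = 1)
    (hs : ΦG2.chr c s = 1) : c ^ detG2 r s = 1 := by
  have key := fun a : Fin 2 → ℤ => ΦG2.chr_sum c Finset.univ a ![r, s]
  simp only [Fin.prod_univ_two, Fin.sum_univ_two, cons_val_zero, cons_val_one, hr, hs, _root_.one_zpow, mul_one] at key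
  have h0 := key ![ΦG2.rt s 1, -ΦG2.rt r 1]
  have h1 := key ![-ΦG2.rt s 0, ΦG2.rt r 0]
  simp only [cons_val_zero, cons_val_one] at h0 h1
  funext i
  rw [Pi.pow_apply, Pi.one_apply, detG2, pow_natAbs_eq_one]
  fin_cases i
  · rw [show ΦG2.rt s 1 * ΦG2.rt r 1 + -ΦG2.rt r 1 * ΦG2.rt s 1 = 0 by ring, zpow_zero, mul_one] at h0
    exact Eq.trans (by congr 1; ring) h0.symm
  · rw [show -ΦG2.rt s 0 * ΦG2.rt r 0 + ΦG2.rt r 0 * ΦG2.rt s 0 = 0 by ring, zpow_zero, one_mul] at h1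
    exact Eq.trans (by congr 1; ring) h1.symm

theorem hmG2 : chevG2 ∈ [chevG2, chevB2, chevD4, chevF4, chevE6, chevE7, chevE8] := by simp

variable {F : Type*} [Field F] [Fintype F] (p : ℕ) [hp : Fact p.Prime] [CharP F p] {q : ℕ} (hq : Fintype.card F = q)
include hq

theorem G2_order_dvd (g : chevG2.group F) : orderOf g ∣ q ^ 2 - 1 ∨ orderOf g ∣ q ^ 2 + q + 1 ∨
    orderOf g ∣ q ^ 2 - q + 1 ∨ orderOf g ∣ p * (q - 1) ∨ orderOf g ∣ p * (q + 1) ∨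
    (∀ k, 5 < p ^ k → orderOf g ∣ p ^ k) ∨ (p = 2 ∧ orderOf g ∣ 12) := by
  have := good_of_mem hmG2
  let S : StSys ΦG2 (AlgebraicClosure F) (GL chevG2.Idx (AlgebraicClosure F)) := stSys rtOKG2 _
  obtain ⟨c, w, hw, h1, h2, h3, u, hu, k, h4, h5⟩ : ∃ c : Fin 2 → (AlgebraicClosure F)ˣ, ∃ w ∈ ΦG2.W,
      (∀ r, ΦG2.chr c (w r) = ΦG2.chr c r ^ Fintype.card F) ∧ (∀ r ∈ ΦG2.Ker c, w r ∈ ΦG2.Ker c) ∧ ¬ p ∣ orderOf c ∧
      ∃ u ∈ S.UU (ΦG2.Ker c), ∃ k, orderOf u = p ^ k ∧ orderOf g = p ^ k * orderOf c :=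
    exists_order_data rtOKG2 hmG2 p g
  rw [hq] at h1
  have hq1 : 1 ≤ q := hq ▸ Fintype.card_pos
  obtain ⟨⟨P, hP, h6⟩, h7⟩ := G2_chk (fun j => w (ΦG2.simple j)) fun i j => ΦG2.form_apply hw _ _
  have hA : Ann ΦG2 w P := fun j i => by simpa only [rt_pow_eq hw] using h6 j i
  have hexp : ∀ (y : Fin 2 → ℤ) (b i : ℕ), (∀ r ∈ ΦG2.Ker c, 1 ≤ ΦG2.ip y r ∧ ΦG2.ip y r ≤ b) → b < p ^ i →
      p ^ k ∣ p ^ i := fun y b i h hb => h4 ▸ orderOf_dvd_of_pow_eq_one (pow_eq_one_of_ip _ (ΦG2.closed_Ker c)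
        (fun _ h => h.1) (fun r hr => (h r hr).1) p (fun r hr => (h r hr).2.trans_lt (by exact_mod_cast hb)) hu)
  rw [h5]
  rcases (ΦG2.Ker c).eq_empty_or_nonempty with h0 | ⟨γ, hγ⟩
  · rw [show p ^ k = 1 from Nat.dvd_one.1 (hexp 0 0 0 (by simp [h0]) one_pos), one_mul]
    simp only [List.mem_cons, List.not_mem_nil, or_false] at hP
    rcases hP with rfl | rfl | rfl
    · exact Or.inl (orderOf_dvd_of_pow_eq_one (hA.pow_eq_one hw h1 (by
        simp [pv, Finset.sum_range_succ, Nat.cast_sub (Nat.one_le_pow _ _ hq1)]; ring)))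
    · exact Or.inr (Or.inl (orderOf_dvd_of_pow_eq_one (hA.pow_eq_one hw h1 (by
        simp [pv, Finset.sum_range_succ]; ring))))
    · exact Or.inr (Or.inr (Or.inl (orderOf_dvd_of_pow_eq_one (hA.pow_eq_one hw h1 (by
        simp [pv, Finset.sum_range_succ, Nat.cast_sub (Nat.le_self_pow two_ne_zero q)]; ring)))))
  refine Or.inr (Or.inr (Or.inr ?_))
  by_cases hc : c = 1
  · exact Or.inr (Or.inr (Or.inl fun i hi => by
      simpa [hc] using hexp ![1, 1] 5 i (fun r hr => (G2_chk₂ r hr.1).1) hi))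
  have h8 : ∀ i, 2 < p ^ i → p ^ k ∣ p ^ i := fun i hi => by
    by_cases h : (7 : Fin 12) ∈ ΦG2.Ker c
    · refine hexp ![1, -1] 2 i (fun r hr => ?_) hi
      rw [(G2_chk₂ r hr.1).2.1 fun e => hc (by simpa [e] using pow_detG2 h.2 hr.2)]
      simp
    · exact hexp ![0, 1] 2 i (fun r hr => (G2_chk₂ r hr.1).2.2.1 fun e => h (e ▸ hr)) hi
  have h9 : p ≠ 2 → p ^ k ∣ p := fun h => by simpa using h8 1 (by have := hp.out.two_le; rw [pow_one]; omega)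
  obtain ⟨n, hn, hpq⟩ := exists_card_eq_pow F p
  rw [Nat.card_eq_fintype_card, hq] at hpq
  have h10 : ∀ r : ℕ, r.Prime → c ^ r = 1 → ¬ r ∣ q ∧ p ≠ r ∧ orderOf c ∣ r := fun r hr e => by
    have : p ≠ r := fun h => h3 (h ▸ (haveI := Fact.mk hr; orderOf_eq_prime e hc).ge |> fun _ => by
      rw [(haveI := Fact.mk hr; orderOf_eq_prime e hc), h])
    exact ⟨fun h => this ((Nat.prime_dvd_prime_iff_eq hr hp.out).1 (hr.dvd_of_dvd_pow (hpq ▸ h))).symm, this,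
      orderOf_dvd_of_pow_eq_one e⟩
  by_cases hs : ∃ s ∈ ΦG2.Ker c, s ≠ γ
  · obtain ⟨s, hs, hs'⟩ := hs
    have e := pow_detG2 hγ.2 hs.2
    rcases (G2_chk₂ γ hγ.1).2.2.2 s hs.1 hs' with h | h | h <;> rw [h] at e
    · exact absurd (by simpa using e) hc
    · obtain ⟨a1, a2, a3⟩ := h10 2 Nat.prime_two e
      exact Or.inl (mul_dvd_mul (h9 a2) (a3.trans (by omega)))
    · obtain ⟨a1, a2, a3⟩ := h10 3 Nat.prime_three e
      by_cases h2 : p = 2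
      · exact Or.inr (Or.inr (Or.inr ⟨h2, mul_dvd_mul (a := p ^ k) (b := 4) (by simpa [h2] using h8 2) a3⟩))
      · obtain h | h : 3 ∣ q - 1 ∨ 3 ∣ q + 1 := by omega
        exacts [Or.inl (mul_dvd_mul (h9 h2) (a3.trans h)), Or.inr (Or.inl (mul_dvd_mul (h9 h2) (a3.trans h)))]
  push Not at hs
  have h11 : p ^ k ∣ p := by
    obtain ⟨t, rfl⟩ := S.mem_X_iff.1 (S.UU_mono hs hu)
    exact h4 ▸ orderOf_dvd_of_pow_eq_one (CfsgLib.Twist.x_pow_char _ p γ t)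
  rcases h7 γ (fun i => by rw [← ΦG2.rt_apply_eq_sum hw, hs _ (h2 γ hγ)]) with h | h
  · refine Or.inl (mul_dvd_mul h11 (orderOf_dvd_of_pow_eq_one (funext fun j => ?_)))
    have := h1 (ΦG2.simple j)
    rw [h j, ΦG2.chr_simple, ← Nat.sub_add_cancel hq1, pow_succ] at this
    simpa using this
  · refine Or.inr (Or.inl (mul_dvd_mul h11 (orderOf_dvd_of_pow_eq_one (funext fun j => ?_))))
    obtain ⟨m, -, e⟩ := h j
    have := ΦG2.chr_sum c Finset.univ ![1, 1, -m] ![w (ΦG2.simple j), ΦG2.simple j, γ]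
    simp only [Fin.prod_univ_three, Fin.sum_univ_three, cons_val_zero, cons_val_one, cons_val_two, one_mul, e,
      neg_mul, add_neg_cancel, zpow_zero, Finset.prod_const_one, h1, ΦG2.chr_simple, head_cons, tail_cons,
      hγ.2] at this
    simpa [pow_succ] using this

omit hq in
theorem tau_mem_G2 [Good chevG2] (c : Fin chevG2.rank → Fˣ) : tau chevG2 F c ∈ chevG2.diagonalSubgroup F := by
  simpa using tau_pow_mem rtOKG2 smithG2 (e := 1)
    (fun i hi x => ⟨x, by rw [(by decide : ∀ i < 2, [1, 1].getD i 0 = 1) i hi]⟩) c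

theorem G2_exists : (∃ g : chevG2.group F, orderOf g = p * (q + 1)) ∧ (∃ g : chevG2.group F, orderOf g = p * (q - 1)) ∧
    (∃ g : chevG2.group F, orderOf g = q ^ 2 - 1) ∧ (∃ g : chevG2.group F, orderOf g = q ^ 2 + q + 1) ∧
    ∃ g : chevG2.group F, orderOf g = q ^ 2 - q + 1 := by
  have := good_of_mem hmG2
  subst hq
  have hq1 : 1 ≤ Fintype.card F := Fintype.card_pos
  refine ⟨?_, ?_, ?_, ?_, ?_⟩
  · exact Eig.exists_orderOf_mul rtOKG2 hmG2 p tau_mem_G2 (ΦG2.wprod_mem_W [1]) (n := 0) (P := [[1], [-2]])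
      (c := [1, 1]) (γ := (7 : Fin 12)) (show Eig ΦG2 _ _ _ (Fin.val : Fin 2 → ℕ) _ _ by decide +kernel) (by simp [pv, Finset.sum_range_succ, add_comm]) (by simp)
      (δ := (9 : Fin 12)) (show ΦG2.wprod _ _ = _ by decide +kernel) (by decide +kernel)
  · exact Eig.exists_orderOf_mul rtOKG2 hmG2 p tau_mem_G2 (ΦG2.wprod_mem_W []) (n := 0) (P := [[1], [0]])
      (c := [-1, 1]) (γ := (7 : Fin 12)) (show Eig ΦG2 _ _ _ (Fin.val : Fin 2 → ℕ) _ _ by decide +kernel)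
      (by simp [pv, Finset.sum_range_succ, Nat.cast_sub hq1, neg_add_eq_sub]) (by simp [hq1])
      (δ := (6 : Fin 12)) (show ΦG2.wprod _ _ = _ by decide +kernel) (by decide +kernel)
  · exact Eig.exists_orderOf rtOKG2 hmG2 tau_mem_G2 (ΦG2.wprod_mem_W [1]) (n := 1) (P := [[1, 0], [-1, 1]])
      (c := [-1, 0, 1]) (γ := (7 : Fin 12)) (show Eig ΦG2 _ _ _ (Fin.val : Fin 2 → ℕ) _ _ by decide +kernel)
      (by simp [pv, Finset.sum_range_succ, Nat.cast_sub (Nat.one_le_pow 2 _ hq1), neg_add_eq_sub])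
      ((Nat.coprime_pow_right_iff two_pos _ _).1 ((Nat.coprime_self_sub_left (Nat.one_le_pow 2 _ hq1)).2 (by simp)))
  · have hN : pv (([1, 1, 1] : List ℤ).getD · 0) (2 + 1) (Fintype.card F) = (Fintype.card F ^ 2 + Fintype.card F + 1 : ℕ) := by
      simp [pv, Finset.sum_range_succ]; ring
    exact Eig.exists_orderOf rtOKG2 hmG2 tau_mem_G2 (ΦG2.wprod_mem_W [0, 1, 0, 1]) (n := 1) (P := [[1, 0], [-1, 1]])
      (c := [1, 1, 1]) (γ := (7 : Fin 12)) (show Eig ΦG2 _ _ _ (Fin.val : Fin 2 → ℕ) _ _ by decide +kernel) hN.symm.dvd (coprime_pv rfl hN)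
  · have hN : pv (([1, -1, 1] : List ℤ).getD · 0) (2 + 1) (Fintype.card F) = (Fintype.card F ^ 2 - Fintype.card F + 1 : ℕ) := by
      simp [pv, Finset.sum_range_succ, Nat.cast_sub (Nat.le_self_pow two_ne_zero _)]; ring
    exact Eig.exists_orderOf rtOKG2 hmG2 tau_mem_G2 (ΦG2.wprod_mem_W [0, 1]) (n := 1) (P := [[1, 0], [-2, 1]])
      (c := [1, -1, 1]) (γ := (7 : Fin 12)) (show Eig ΦG2 _ _ _ (Fin.val : Fin 2 → ℕ) _ _ by decide +kernel) hN.symm.dvd (coprime_pv rfl hN)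

/-- the orbit of `h₂` under the regular unipotent element -/
def orbG2 (k : ℕ) : chevG2.Idx → ℤ := Sum.elim (fun i => if i.1 = 1 then 1 else 0) fun r =>
  g2 [[], [-2, 1, 2, -2, -2, 0], [-4, 2, 7, -12, -21, -2], [-6, 3, 15, -36, -90, -23], [-8, 4, 26, -80, -260, -113],
    [-10, 5, 40, -150, -600, -373]] k (if r.1 < 6 then 6 else r.1 - 6)

omit hq in
theorem orbG2_step : ∀ k < 5, ∀ i, (xR chevG2 ℤ 7 1 *ᵥ (xR chevG2 ℤ 6 1 *ᵥ orbG2 k)) i = orbG2 (k + 1) i := by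
  decide +kernel

omit hq [Fintype F] in
theorem G2_exists_sq (h : p = 3 ∨ p = 5) : ∃ g : chevG2.group F, orderOf g = p ^ 2 := by
  have := good_of_mem hmG2
  let S : StSys ΦG2 F (GL chevG2.Idx F) := stSys rtOKG2 _
  have h1 : S.x 7 1 * S.x 6 1 ∈ S.U :=
    mul_mem (S.x_mem_U (show ∀ j, _ by decide +kernel) 1) (S.x_mem_U (show ∀ j, _ by decide +kernel) 1)
  refine ⟨⟨_, (stSys_grp rtOKG2).le (S.U_le_grp h1)⟩, ?_⟩
  rw [Subgroup.orderOf_mk]
  refine orderOf_eq_prime_pow (fun e => ?_) (pow_eq_one_of_ip S ΦG2.closed_pos (fun _ h => h) (y := ![1, 1])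
    (fun r hr => (G2_chk₂ r hr).1.1) p (fun r hr => (G2_chk₂ r hr).1.2.trans_lt (by rcases h with rfl | rfl <;> norm_num)) h1)
  have key : ∀ k ≤ 5, ((S.x 7 1 * S.x 6 1) ^ k : GL chevG2.Idx F).val *ᵥ (Int.castRingHom F ∘ orbG2 0) =
      Int.castRingHom F ∘ orbG2 k := fun k hk => by
    induction k with
    | zero => simp
    | succ k ih =>
      rw [pow_succ', Units.val_mul, ← mulVec_mulVec, ih (by omega), ← funext (orbG2_step k hk), Units.val_mul,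
        ← mulVec_mulVec]
      funext i
      rw [Function.comp_apply, RingHom.map_mulVec, show Int.castRingHom F ∘ _ = _ from funext (RingHom.map_mulVec _ _ _),
        xR_map, xR_map, map_one,
        ← x_eq_xR, ← x_eq_xR]
      rfl
  have h2 := congrFun (key p (by omega)) (.inr (11 : Fin 12))
  rw [pow_one] at e
  rw [e, Units.val_one, one_mulVec, Function.comp_apply, Function.comp_apply, ← sub_eq_zero, ← map_sub, eq_intCast,
    CharP.intCast_eq_zero_iff F p] at h2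
  revert h2
  rcases h with rfl | rfl <;> decide +kernel

omit hq hp [Fintype F] in
theorem G2_exists_two [CharP F 2] : (∃ g : chevG2.group F, orderOf g = 8) ∧ ∃ g : chevG2.group F, orderOf g = 12 := by
  have := good_of_mem hmG2
  have key : ∀ (l : List ℕ) (n : ℕ), ChevInv.wd chevG2 F l ^ n = ChevInv.wd chevG2 F (List.replicate n l).flatten :=
    fun l n => by
      induction n with
      | zero => rfl
      | succ n ih => rw [pow_succ', ih, List.replicate_succ, List.flatten_cons, ChevInv.wd_append]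
  refine ⟨⟨⟨_, ChevInv.wd_mem_group [7, 6]⟩, ?_⟩, ⟨_, ChevInv.wd_mem_group [0, 2, 9]⟩, ?_⟩ <;> rw [Subgroup.orderOf_mk]
  · exact orderOf_eq_prime_pow (p := 2) (n := 2) (key _ _ ▸ ChevInv.ne_one_of_rk matchG2.ofD_eq rfl (by decide +kernel))
      (key _ _ ▸ ChevInv.eq_of_same (l' := []) matchG2.ofD_eq rfl (by decide +kernel))
  · refine orderOf_eq_of_pow_and_pow_div_prime (by decide)
      (key _ _ ▸ ChevInv.eq_of_same (l' := []) matchG2.ofD_eq rfl (by decide +kernel)) fun r hr h => ?_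
    obtain rfl | rfl : r = 2 ∨ r = 3 := by
      have := Nat.le_of_dvd (by decide) h
      interval_cases r <;> first | omega | exact absurd hr (by decide)
    all_goals exact key _ _ ▸ ChevInv.ne_one_of_rk matchG2.ofD_eq rfl (by decide +kernel)

end CfsgLib.Semi
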